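import Cfsg.Agent.Lib.Goldschmidt.Reduced
import Cfsg.Agent.Lib.Goldschmidt.FourTightDefs
import Cfsg.Agent.Lib.Tech46.Balance
import Cfsg.Agent.Lib.LocalEven.SubnormalJoin
import Cfsg.Agent.Lib.OddOrder.PuigSeries
import Cfsg.Agent.Lib.PCore.Basic

/-!
# A component met in a four-group by a strongly closed subgroup of order eight

`H` has trivial core, `T` is a Sylow 2-subgroup normalising the component `L` and centralising the abelian
strongly closed `B`, and `B ∩ L` has order four and meets `Z(L)` trivially.  Then `B ∩ L` covers the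
involutions of the image of `T` in `L/Z(L)`, an element of `T` moving `T ∩ L` only by `B ∩ L` is inner on
`L`, and `T ∩ L` is either covered by `B ∩ L` or has a commutator subgroup covering `B ∩ L`.
-/

set_option autoImplicit false
set_option linter.unusedSectionVars false
set_option linter.style.haveILetI false

namespace CfsgLib.Goldschmidt

open Subgroup CfsgLib.Walter.RankFour
open scoped commutatorElement

universe u

namespace RankThree

local instance : Fact (Nat.Prime 2) := ⟨Nat.prime_two⟩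

variable {H : Type u} [Group H] [Finite H]

/-- With a central element in `B`, a cycle has `W = B ∩ L` of order four. -/
theorem compCycle_card {B L W : Subgroup H} {g : H} (hg : CompCycle B L W g) (h8 : Nat.card ↥B = 8)
    {z : H} (hz : z ∈ B) (hz1 : z ≠ 1) (hzL : z ∈ centralizer (L : Set H))
    (hfree : B ⊓ L ⊓ centralizer (L : Set H) = ⊥) :
    Nat.card ↥W = 4 ∧ B ⊓ L = W ∧ ∀ b ∈ B, b ∈ centralizer (L : Set H) → b = 1 ∨ b = z := by
  set C : Subgroup H := B ⊓ centralizer (L : Set H) with hC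
  have hinj : ∀ a ∈ W, a ∈ C → a = 1 := fun a ha hac =>
    mem_bot.1 (hg.inf_eq ▸ mem_inf.2 ⟨ha, hac.2⟩)
  have hcard : Nat.card ↥W * Nat.card ↥C = Nat.card ↥B := by
    rw [← Nat.card_prod]
    refine Nat.card_eq_of_bijective
      (fun p : ↥W × ↥C => (⟨(p.2 : H) * p.1, mul_mem p.2.2.1 (hg.cycle.le p.1.2)⟩ : ↥B)) ⟨?_, ?_⟩
    · rintro ⟨a, c⟩ ⟨b, d⟩ h
      have h' : (c : H) * a = d * b := congrArg Subtype.val h
      have he : (b : H) * (a : H)⁻¹ = (d : H)⁻¹ * c := by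
        calc (b : H) * (a : H)⁻¹ = (d : H)⁻¹ * ((d : H) * b) * (a : H)⁻¹ := by group
          _ = _ := by rw [← h']; group
      have hab := hinj _ (mul_mem b.2 (inv_mem a.2)) (he ▸ mul_mem (inv_mem d.2) c.2)
      refine Prod.ext (Subtype.ext (mul_inv_eq_one.1 hab).symm) (Subtype.ext ?_)
      rw [hab] at he
      exact (inv_mul_eq_one.1 he.symm).symm
    · intro b
      obtain ⟨w, hw, hwc⟩ := hg.exists_mul b b.2
      exact ⟨(⟨w⁻¹, inv_mem hw⟩, ⟨b * w, mul_mem b.2 (hg.cycle.le hw), hwc⟩),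
        Subtype.ext (mul_inv_cancel_right _ _)⟩
  haveI : Nontrivial ↥C := ⟨⟨z, hz, hzL⟩, 1, fun h => hz1 (congrArg Subtype.val h)⟩
  have hC2 : 2 ≤ Nat.card ↥C := Finite.one_lt_card
  have hW4 := hg.cycle.four_le
  rw [h8] at hcard
  have hW : Nat.card ↥W = 4 := by nlinarith
  have hC' : Nat.card ↥C = 2 := by rw [hW] at hcard; omega
  refine ⟨hW, le_antisymm (fun x hx => ?_) (le_inf hg.cycle.le hg.le), fun b hb hbC => ?_⟩
  · obtain ⟨w, hw, hwc⟩ := hg.exists_mul x hx.1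
    have h1 : x * w ∈ B ⊓ L ⊓ centralizer (L : Set H) :=
      ⟨⟨mul_mem hx.1 (hg.cycle.le hw), mul_mem hx.2 (hg.le hw)⟩, hwc⟩
    rw [hfree, mem_bot] at h1
    rw [eq_inv_of_mul_eq_one_left h1]
    exact inv_mem hw
  · rcases eq_or_ne b 1 with rfl | hb1
    · exact Or.inl rfl
    obtain ⟨y, -, hy⟩ := (Nat.card_eq_two_iff' (1 : ↥C)).1 hC'
    exact Or.inr (congrArg Subtype.val ((hy ⟨b, hb, hbC⟩ fun e => hb1 (congrArg Subtype.val e)).trans
      (hy ⟨z, hz, hzL⟩ fun e => hz1 (congrArg Subtype.val e)).symm))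

/-- The local situation. -/
structure EightLocal (T : Sylow 2 H) (B L : Subgroup H) : Prop where
  core : Cfsg.pPrimeCore 2 H = ⊥
  comp : Cfsg.IsComponent L
  norm : (T : Subgroup H) ≤ normalizer (L : Set H)
  comm : IsMulCommutative ↥B
  cent : (T : Subgroup H) ≤ centralizer (B : Set H)
  sc : Cfsg.IsStronglyClosed B (T : Subgroup H)
  card_meet : Nat.card ↥(B ⊓ L) = 4
  meet_free : B ⊓ L ⊓ centralizer (L : Set H) = ⊥
  good : AGood (↥L ⧸ center ↥L)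
  tight : FourTight (↥L ⧸ center ↥L)

theorem mk_eq_one_iff {L : Subgroup H} (a : ↥L) :
    QuotientGroup.mk' (center ↥L) a = 1 ↔ (a : H) ∈ centralizer (L : Set H) := by
  rw [QuotientGroup.mk'_apply, QuotientGroup.eq_one_iff, mem_center_iff, mem_centralizer_iff]
  exact ⟨fun h y hy => congrArg Subtype.val (h ⟨y, hy⟩), fun h y => Subtype.ext (h y y.2)⟩

theorem mk_eq_mk_iff {L : Subgroup H} (a b : ↥L) :
    QuotientGroup.mk' (center ↥L) a = QuotientGroup.mk' (center ↥L) b ↔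
      (b : H)⁻¹ * (a : H) ∈ centralizer (L : Set H) := by
  rw [show (b : H)⁻¹ * (a : H) = ((b⁻¹ * a : ↥L) : H) by simp, ← mk_eq_one_iff, map_mul, map_inv,
    inv_mul_eq_one, eq_comm]

theorem conj_commutator_mem {K : Subgroup H} {t d : H} (ht : t ∈ K) (hd : d ∈ ⁅K, K⁆) :
    t * d * t⁻¹ ∈ ⁅K, K⁆ := by
  have hK : K.map (MulAut.conj t).toMonoidHom = K :=
    mem_normalizer_iff_map_conj_eq.1 (le_normalizer ht)
  have h := mem_map_of_mem (MulAut.conj t).toMonoidHom hd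
  rw [map_commutator, hK] at h
  exact h

variable {T : Sylow 2 H} {B L : Subgroup H}

/-- The image of `T ∩ L` in `L/Z(L)` and its elements of order at most two. -/
theorem EightLocal.exists_sylow (hE : EightLocal T B L) :
    ∃ Tb : Sylow 2 (↥L ⧸ center ↥L),
      (∀ a : ↥L, QuotientGroup.mk' (center ↥L) a ∈ (Tb : Subgroup _) ↔ (a : H) ∈ T) ∧
      (involSet (Tb : Subgroup (↥L ⧸ center ↥L))).ncard = 4 ∧
      ∀ a : ↥L, QuotientGroup.mk' (center ↥L) a ∈ involSet (Tb : Subgroup _) ↔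
        ∃ w ∈ B ⊓ L, w⁻¹ * (a : H) ∈ centralizer (L : Set H) := by
  obtain ⟨Q, hQ⟩ := CfsgLib.SubJoin.exists_sylow_subnormal T hE.comp.1
  have hZ : L ⊓ centralizer (L : Set H) ≤ (T : Subgroup H) :=
    (CfsgLib.Components.component_center_le_pCore hE.core hE.comp).trans (CfsgLib.PCore.pCore_le_sylow T)
  let π := QuotientGroup.mk' (center ↥L)
  have hiff : ∀ a : ↥L, π a ∈ ((Q.mapSurjective (QuotientGroup.mk'_surjective (center ↥L)) :
      Sylow 2 (↥L ⧸ center ↥L)) : Subgroup _) ↔ (a : H) ∈ T := by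
    intro a
    rw [Sylow.coe_mapSurjective, hQ]
    constructor
    · rintro ⟨q, hq, hqa⟩
      have hz : ((q⁻¹ * a : ↥L) : H) ∈ centralizer (L : Set H) := (mk_eq_one_iff _).1 (by
        rw [map_mul, map_inv, hqa, inv_mul_cancel])
      have : (a : H) = (q : H) * ((q⁻¹ * a : ↥L) : H) := by simp
      rw [this]
      exact mul_mem (mem_subgroupOf.1 hq) (hZ ⟨(q⁻¹ * a).2, hz⟩)
    · exact fun ha => ⟨a, mem_subgroupOf.2 ha, rfl⟩
  set Tb := Q.mapSurjective (QuotientGroup.mk'_surjective (center ↥L))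
  let Bb : Subgroup (↥L ⧸ center ↥L) := (B.subgroupOf L).map π
  have hsc : Cfsg.IsStronglyClosed Bb (Tb : Subgroup (↥L ⧸ center ↥L)) := by
    refine ⟨?_, ?_⟩
    · rintro _ ⟨w, hw, rfl⟩
      exact (hiff w).2 (hE.sc.1 hw)
    · rintro _ ⟨w, hw, rfl⟩ g hg
      obtain ⟨l, rfl⟩ := QuotientGroup.mk'_surjective _ g
      rw [← map_inv, ← map_mul, ← map_mul] at hg ⊢
      exact ⟨l * w * l⁻¹, hE.sc.2 _ hw l ((hiff (l * w * l⁻¹)).1 hg), rfl⟩
  have hcomm : IsMulCommutative ↥Bb := by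
    refine ⟨⟨?_⟩⟩
    rintro ⟨_, a, ha, rfl⟩ ⟨_, b, hb, rfl⟩
    refine Subtype.ext ?_
    show π a * π b = π b * π a
    rw [← map_mul, ← map_mul]
    exact congrArg π (Subtype.ext (congrArg Subtype.val (hE.comm.1.comm (⟨a, ha⟩ : B) ⟨b, hb⟩) :))
  have hcard : Nat.card ↥Bb = 4 := by
    rw [← hE.card_meet]
    refine (Nat.card_eq_of_bijective (fun w : ↥(B ⊓ L) =>
      (⟨π ⟨w, w.2.2⟩, ⟨⟨w, w.2.2⟩, w.2.1, rfl⟩⟩ : ↥Bb)) ⟨?_, ?_⟩).symm
    · intro a b h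
      have h' := (mk_eq_mk_iff _ _).1 (congrArg Subtype.val h)
      exact Subtype.ext (inv_mul_eq_one.1 (mem_bot.1 (hE.meet_free ▸
        mem_inf.2 ⟨mem_inf.2 ⟨mul_mem (inv_mem b.2.1) a.2.1, mul_mem (inv_mem b.2.2) a.2.2⟩, h'⟩))).symm
    · rintro ⟨_, w, hw, rfl⟩
      exact ⟨⟨w, hw, w.2⟩, rfl⟩
  have hne : Bb ≠ ⊥ := fun e => by rw [e, card_bot] at hcard; omega
  have hΩ := hE.good.sc_eq Tb Bb hsc hcomm hne
  refine ⟨Tb, hiff, by rw [← hΩ, ← Nat.card_coe_set_eq]; exact hcard, fun a => ?_⟩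
  rw [← hΩ, SetLike.mem_coe]
  constructor
  · rintro ⟨w, hw, hwa⟩
    exact ⟨w, ⟨hw, w.2⟩, (mk_eq_mk_iff _ _).1 hwa.symm⟩
  · rintro ⟨w, hw, hwa⟩
    exact ⟨⟨w, hw.2⟩, hw.1, ((mk_eq_mk_iff a ⟨w, hw.2⟩).2 hwa).symm⟩

/-- An element of `T ∩ L` with at most two commutators modulo `Z(L)` lies over `B ∩ L`. -/
theorem EightLocal.tight_mem (hE : EightLocal T B L) {a w₀ : H} (ha : a ∈ (T : Subgroup H) ⊓ L)
    (hw₀ : w₀ ∈ B ⊓ L)
    (h : ∀ t ∈ (T : Subgroup H) ⊓ L, a * t * a⁻¹ * t⁻¹ ∈ centralizer (L : Set H) ∨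
      w₀⁻¹ * (a * t * a⁻¹ * t⁻¹) ∈ centralizer (L : Set H)) :
    ∃ w ∈ B ⊓ L, w⁻¹ * a ∈ centralizer (L : Set H) := by
  obtain ⟨Tb, hT, h4, hΩ⟩ := hE.exists_sylow
  let π := QuotientGroup.mk' (center ↥L)
  refine (hΩ ⟨a, ha.2⟩).1 (hE.tight Tb h4 _ ((hT _).2 ha.1) (π ⟨w₀, hw₀.2⟩)
    ((hΩ _).2 ⟨w₀, hw₀, by simpa using one_mem (centralizer (L : Set H))⟩) fun t ht => ?_)
  obtain ⟨t, rfl⟩ := QuotientGroup.mk'_surjective _ t
  rw [← map_inv, ← map_inv, ← map_mul, ← map_mul, ← map_mul, mk_eq_one_iff, mk_eq_mk_iff]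
  exact h t ⟨(hT t).1 ht, t.2⟩

/-- An element of `T` moving `T ∩ L` only by `B ∩ L` is inner on `L`. -/
theorem EightLocal.inner_mem (hE : EightLocal T B L) {s : H} (hs : s ∈ (T : Subgroup H))
    (h : ∀ t ∈ (T : Subgroup H) ⊓ L,
      ∃ w ∈ B ⊓ L, w⁻¹ * (s * t * s⁻¹ * t⁻¹) ∈ centralizer (L : Set H)) :
    ∃ z ∈ (T : Subgroup H) ⊓ L, z⁻¹ * s ∈ centralizer (L : Set H) ∧
      ∀ t ∈ L, s * t * s⁻¹ * t⁻¹ = z * t * z⁻¹ * t⁻¹ := by
  obtain ⟨Tb, hT, -, hΩ⟩ := hE.exists_sylow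
  let π := QuotientGroup.mk' (center ↥L)
  set φ₀ : MulAut ↥L := L.normalizerMonoidHom ⟨s, hE.norm hs⟩ with hφ₀
  set φ := descendCenter ↥L φ₀ with hφ
  have hφπ : ∀ a : ↥L, φ (π a) = π (φ₀ a) := fun a => descendCenter_mk φ₀ a
  have hcoe : ∀ a : ↥L, (φ₀ a : H) = s * a * s⁻¹ := fun a => rfl
  obtain ⟨k, hk⟩ := T.isPGroup' ⟨s, hs⟩
  have hs1 : s ^ 2 ^ k = 1 := congrArg Subtype.val hk
  obtain ⟨zb, hzb, hφz⟩ := hE.good.inner Tb φ
    ⟨k, by rw [hφ, hφ₀, ← map_pow, ← map_pow,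
      show (⟨s, hE.norm hs⟩ : ↥(normalizer (L : Set H))) ^ 2 ^ k = 1 from Subtype.ext hs1, map_one, map_one]⟩
    (fun x hx => by
      obtain ⟨a, rfl⟩ := QuotientGroup.mk'_surjective _ x
      obtain ⟨w, hw, hwa⟩ := (hΩ a).1 hx
      rw [(mk_eq_mk_iff a ⟨w, hw.2⟩).2 hwa, hφπ]
      refine congrArg π (Subtype.ext ?_)
      rw [hcoe]
      show s * w * s⁻¹ = w
      rw [← mem_centralizer_iff.1 (hE.cent hs) w hw.1, mul_inv_cancel_right])
    (fun x hx => by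
      obtain ⟨a, rfl⟩ := QuotientGroup.mk'_surjective _ x
      rw [hφπ, ← map_inv, ← map_mul]
      refine (hΩ _).2 ?_
      simpa [hcoe] using h a ⟨(hT a).1 hx, a.2⟩)
  obtain ⟨z, rfl⟩ := QuotientGroup.mk'_surjective _ zb
  have hzs : (z : H)⁻¹ * s ∈ centralizer (L : Set H) := by
    refine CfsgLib.Tech46.mem_centralizer_of_component_mod_center hE.comp fun k hk => ?_
    have he : π (φ₀ ⟨k, hk⟩) = π (z * ⟨k, hk⟩ * z⁻¹) := by
      rw [← hφπ, hφz]; simp [π, MulAut.conj_apply]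
    have hc := (mk_eq_mk_iff _ _).1 he
    rw [hcoe] at hc
    simp only [Subgroup.coe_mul, Subgroup.coe_inv] at hc
    set c := ((z : H) * k * (z : H)⁻¹)⁻¹ * (s * k * s⁻¹) with hc'
    have hcL : c ∈ L := by
      refine mul_mem (inv_mem (mul_mem (mul_mem z.2 hk) (inv_mem z.2))) ?_
      exact (mem_normalizer_iff.1 (hE.norm hs) k).1 hk
    have hcc := mem_centralizer_iff.1 hc
    rw [commutatorElement_def]
    have e : (z : H)⁻¹ * s * k * ((z : H)⁻¹ * s)⁻¹ * k⁻¹ = c := by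
      calc (z : H)⁻¹ * s * k * ((z : H)⁻¹ * s)⁻¹ * k⁻¹
          = (z : H)⁻¹ * ((z : H) * k * (z : H)⁻¹ * c) * (z : H) * k⁻¹ := by rw [hc']; group
        _ = k * ((z : H)⁻¹ * c) * (z : H) * k⁻¹ := by group
        _ = k * (c * (z : H)⁻¹) * (z : H) * k⁻¹ := by rw [hcc _ (inv_mem z.2)]
        _ = k * c * k⁻¹ := by group
        _ = c * k * k⁻¹ := by rw [hcc _ hk]
        _ = c := by group
    rw [e]
    exact ⟨hcL, hc⟩
  refine ⟨z, ⟨(hT z).1 hzb, z.2⟩, hzs, fun t ht => ?_⟩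
  have hx := mem_centralizer_iff.1 hzs t ht
  calc s * t * s⁻¹ * t⁻¹ = (z : H) * ((z : H)⁻¹ * s * t) * ((z : H)⁻¹ * s)⁻¹ * (z : H)⁻¹ * t⁻¹ := by group
    _ = (z : H) * (t * ((z : H)⁻¹ * s)) * ((z : H)⁻¹ * s)⁻¹ * (z : H)⁻¹ * t⁻¹ := by rw [hx]
    _ = _ := by group

/-- A subgroup of `T ∩ L` normalised by `T ∩ L` covers `B ∩ L` or is covered by one of its elements. -/
theorem EightLocal.normal_cases (hE : EightLocal T B L) {D : Subgroup H}
    (hD : D ≤ (T : Subgroup H) ⊓ L)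
    (hn : ∀ t ∈ (T : Subgroup H) ⊓ L, ∀ d ∈ D, t * d * t⁻¹ ∈ D) :
    (∀ w ∈ B ⊓ L, ∃ d ∈ D, w⁻¹ * d ∈ centralizer (L : Set H)) ∨
      ∃ w₀ ∈ B ⊓ L, ∀ d ∈ D, d ∈ centralizer (L : Set H) ∨ w₀⁻¹ * d ∈ centralizer (L : Set H) := by
  classical
  obtain ⟨Tb, hT, h4, hΩ⟩ := hE.exists_sylow
  let π := QuotientGroup.mk' (center ↥L)
  let Db : Subgroup (↥L ⧸ center ↥L) := (D.subgroupOf L).map π
  have hDb : Db ≤ (Tb : Subgroup _) := by
    rintro _ ⟨d, hd, rfl⟩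
    exact (hT d).2 (hD hd).1
  have hDn : ∀ t ∈ (Tb : Subgroup (↥L ⧸ center ↥L)), ∀ d ∈ Db, t * d * t⁻¹ ∈ Db := by
    intro t ht x hx
    obtain ⟨d, hd, rfl⟩ := hx
    obtain ⟨t, rfl⟩ := QuotientGroup.mk'_surjective _ t
    rw [← map_inv, ← map_mul, ← map_mul]
    exact ⟨t * d * t⁻¹, hn t ⟨(hT t).1 ht, t.2⟩ _ hd, rfl⟩
  set Ω := involSet (Tb : Subgroup (↥L ⧸ center ↥L)) with hΩdef
  have hΩc : ∀ x ∈ Ω, ∀ y ∈ (Tb : Subgroup (↥L ⧸ center ↥L)), x * y = y * x := hE.good.central Tb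
  have hcase : (∀ x ∈ Ω, x ∈ Db) ∨ ∃ d ∈ Ω, ∀ x ∈ Db, x = 1 ∨ x = d := by
    rcases eq_or_ne Db ⊥ with hbot | hbot
    · exact Or.inr ⟨1, ⟨one_mem _, one_pow 2⟩, fun x hx => Or.inl (by rwa [hbot, mem_bot] at hx)⟩
    obtain ⟨d, hdD, hd1, hd2⟩ := isPGroup_ne_bot_exists_invol' (Tb.2.to_le hDb) hbot
    have hdΩ : d ∈ Ω := ⟨hDb hdD, hd2⟩
    by_cases htwo : ∃ e ∈ Ω, e ∈ Db ∧ e ≠ 1 ∧ e ≠ d
    · obtain ⟨e, heΩ, heD, he1, hed⟩ := htwo
      refine Or.inl fun x hx => ?_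
      have hde : d * e ∈ Ω := ⟨mul_mem (hDb hdD) (hDb heD), by
        rw [(show Commute d e from hΩc d hdΩ e (hDb heD)).mul_pow, hd2, heΩ.2, mul_one]⟩
      have hsub : ({1, d, e, d * e} : Set (↥L ⧸ center ↥L)) ⊆ Ω := by
        rintro y (rfl | rfl | rfl | rfl)
        exacts [⟨one_mem _, one_pow 2⟩, hdΩ, heΩ, hde]
      have hde1 : d * e ≠ 1 := fun h => hed (by
        calc e = d ^ 2 * e := by rw [hd2, one_mul]
          _ = d * (d * e) := by rw [pow_two, mul_assoc]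
          _ = d := by rw [h, mul_one])
      have hn4 : ({1, d, e, d * e} : Set (↥L ⧸ center ↥L)).ncard = 4 := by
        rw [Set.ncard_insert_of_notMem (by
            simp only [Set.mem_insert_iff, Set.mem_singleton_iff, not_or]
            exact ⟨Ne.symm hd1, Ne.symm he1, Ne.symm hde1⟩),
          Set.ncard_insert_of_notMem (by
            simp only [Set.mem_insert_iff, Set.mem_singleton_iff, not_or]
            exact ⟨Ne.symm hed, fun h => he1 (mul_eq_left.1 h.symm)⟩),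
          Set.ncard_insert_of_notMem (by
            rw [Set.mem_singleton_iff]
            exact fun h => hd1 (mul_eq_right.1 h.symm)),
          Set.ncard_singleton]
      rw [← Set.eq_of_subset_of_ncard_le hsub (by rw [h4, hn4]) (Set.toFinite _)] at hx
      rcases hx with rfl | rfl | rfl | rfl
      exacts [one_mem _, hdD, heD, mul_mem hdD heD]
    · push Not at htwo
      refine Or.inr ⟨d, hdΩ, fun x hx => ?_⟩
      let d' : ↥(Tb : Subgroup (↥L ⧸ center ↥L)) := ⟨d, hDb hdD⟩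
      let D' := Db.subgroupOf (Tb : Subgroup (↥L ⧸ center ↥L))
      haveI : D'.Normal := ⟨fun n hn' g => hDn g g.2 n hn'⟩
      haveI hZn : (zpowers d').Normal := by
        refine ⟨fun n hn' g => ?_⟩
        have hc : Commute g d' := (Subtype.ext (hΩc d hdΩ g g.2).symm : g * d' = d' * g)
        obtain ⟨i, rfl⟩ := mem_zpowers_iff.1 hn'
        rw [(hc.zpow_right i).eq, mul_inv_cancel_right]
        exact zpow_mem_zpowers _ _
      have hzd : ∀ n ∈ zpowers d', (n : ↥L ⧸ center ↥L) = 1 ∨ (n : ↥L ⧸ center ↥L) = d := by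
        intro n hn'
        obtain ⟨i, rfl⟩ := mem_zpowers_iff.1 hn'
        rw [Subgroup.coe_zpow]
        rcases Int.even_or_odd i with ⟨j, rfl⟩ | ⟨j, rfl⟩
        · left
          rw [show d ^ (j + j) = (d ^ 2) ^ j by rw [← zpow_natCast, ← zpow_mul]; congr 1; ring, hd2, one_zpow]
        · right
          rw [zpow_add, zpow_one, zpow_mul, zpow_ofNat, hd2, one_zpow, one_mul]
      suffices hle : D' ≤ zpowers d' from hzd _ (hle (show (⟨x, hDb hx⟩ : ↥(Tb : Subgroup _)) ∈ D' from hx))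
      by_contra hle
      haveI := (Tb.2.to_quotient (zpowers d')).isNilpotent
      haveI : (D'.map (QuotientGroup.mk' (zpowers d'))).Normal :=
        ‹D'.Normal›.map _ (QuotientGroup.mk'_surjective _)
      have hne : D'.map (QuotientGroup.mk' (zpowers d')) ≠ ⊥ := fun e =>
        hle (by rw [Subgroup.map_eq_bot_iff, QuotientGroup.ker_mk'] at e; exact e)
      obtain ⟨⟨q, hqc, hqD⟩, hq1⟩ := Subgroup.ne_bot_iff_exists_ne_one.1
        (CfsgLib.OddOrder.PuigSeries.inf_center_ne_bot _ hne)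
      obtain ⟨y, hy, rfl⟩ := hqD
      have hyZ : y ∉ zpowers d' := fun h =>
        hq1 (Subtype.ext ((QuotientGroup.eq_one_iff _).2 h))
      have hyT := hE.tight Tb h4 y y.2 d hdΩ fun t ht => by
        have := mem_center_iff.1 hqc (QuotientGroup.mk' (zpowers d') ⟨t, ht⟩)
        refine hzd (y * ⟨t, ht⟩ * y⁻¹ * ⟨t, ht⟩⁻¹) ((QuotientGroup.eq_one_iff _).1 ?_)
        show QuotientGroup.mk' (zpowers d') _ = 1
        rw [map_mul, map_mul, map_mul, map_inv, map_inv, ← this, mul_inv_cancel_right, mul_inv_cancel]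
      rcases eq_or_ne (y : ↥L ⧸ center ↥L) 1 with h1 | h1
      · exact hyZ (by rw [show y = 1 from Subtype.ext h1]; exact one_mem _)
      · exact hyZ (by
          rw [show y = d' from Subtype.ext (htwo _ hyT hy h1)]
          exact mem_zpowers _)
  rcases hcase with hall | ⟨d, hd, hD2⟩
  · refine Or.inl fun w hw => ?_
    obtain ⟨x, hx, hxw⟩ := hall (π ⟨w, hw.2⟩) ((hΩ _).2 ⟨w, hw, by simpa using one_mem (centralizer (L : Set H))⟩)
    exact ⟨x, hx, (mk_eq_mk_iff x ⟨w, hw.2⟩).1 hxw⟩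
  · obtain ⟨d, rfl⟩ := QuotientGroup.mk'_surjective _ d
    obtain ⟨w₀, hw₀, hwd⟩ := (hΩ d).1 hd
    refine Or.inr ⟨w₀, hw₀, fun x hx => ?_⟩
    rcases hD2 (π ⟨x, (hD hx).2⟩) ⟨⟨x, (hD hx).2⟩, hx, rfl⟩ with h | h
    · exact Or.inl ((mk_eq_one_iff _).1 h)
    · rw [(mk_eq_mk_iff d ⟨w₀, hw₀.2⟩).2 hwd] at h
      exact Or.inr ((mk_eq_mk_iff _ _).1 h)
where
  isPGroup_ne_bot_exists_invol' {X : Type u} [Group X] [Finite X] {A : Subgroup X} (hp : IsPGroup 2 ↥A)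
      (hA : A ≠ ⊥) : ∃ a ∈ A, a ≠ 1 ∧ a ^ 2 = 1 := by
    haveI : Nontrivial ↥A := (Subgroup.nontrivial_iff_ne_bot A).2 hA
    obtain ⟨n, hn, hc⟩ := hp.nontrivial_iff_card.1 inferInstance
    obtain ⟨a, ha⟩ := exists_prime_orderOf_dvd_card' (G := ↥A) 2 (hc ▸ dvd_pow_self 2 hn.ne')
    refine ⟨a, a.2, fun e => ?_, ?_⟩
    · rw [show a = 1 from Subtype.ext e, orderOf_one] at ha
      exact absurd ha (by norm_num)
    · rw [← Subgroup.coe_pow, ← ha, pow_orderOf_eq_one, Subgroup.coe_one]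

/-- If `B ∩ L` does not cover `T ∩ L`, it lies over the commutator subgroup of `T ∩ L`. -/
theorem EightLocal.cover_or_commutator (hE : EightLocal T B L) :
    (∀ a ∈ (T : Subgroup H) ⊓ L, ∃ w ∈ B ⊓ L, w⁻¹ * a ∈ centralizer (L : Set H)) ∨
      ∀ w ∈ B ⊓ L, ∃ d ∈ ⁅(T : Subgroup H) ⊓ L, (T : Subgroup H) ⊓ L⁆,
        w⁻¹ * d ∈ centralizer (L : Set H) := by
  have hle : ⁅(T : Subgroup H) ⊓ L, (T : Subgroup H) ⊓ L⁆ ≤ (T : Subgroup H) ⊓ L :=
    commutator_le.2 fun a ha b hb => by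
      rw [commutatorElement_def]; exact mul_mem (mul_mem (mul_mem ha hb) (inv_mem ha)) (inv_mem hb)
  rcases hE.normal_cases hle (fun t ht d hd => conj_commutator_mem ht hd) with h | ⟨w₀, hw₀, h⟩
  · exact Or.inr h
  · refine Or.inl fun a ha => hE.tight_mem ha hw₀ fun t ht => h _ ?_
    rw [← commutatorElement_def]
    exact commutator_mem_commutator ha ht

end RankThree

end CfsgLib.Goldschmidt
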