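import Cfsg.Agent.Lib.Goldschmidt.RankThree.Local
import Cfsg.Agent.Lib.Goldschmidt.Basic
import Cfsg.Agent.Lib.Goldschmidt.CentreFree

/-!
# Order eight: the pieces, and the Sylow 2-subgroup centralises `A`

For `|A| = 8` and free centres each `u ∈ A#` sees at most one component moved by `A`, its piece of order four
complements `⟨u⟩` in `A`, and the pairs `(⟨u⟩, piece)` form a piece family of the automizer.  So the automizer
has a normal 2-complement and `S` centralises `A`.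
-/

set_option autoImplicit false
set_option linter.unusedSectionVars false
set_option linter.style.haveILetI false

namespace CfsgLib.Goldschmidt

open Subgroup CfsgLib.Walter.RankFour

universe u

namespace RankThree

local instance : Fact (Nat.Prime 2) := ⟨Nat.prime_two⟩

/-- A group of order four with two distinct non-trivial elements `x`, `y` is `{1, x, y, xy}`. -/
theorem mem_four {X : Type u} [Group X] [Finite X] {W : Subgroup X} (h4 : Nat.card ↥W = 4) {x y : X}
    (hx : x ∈ W) (hy : y ∈ W) (hx1 : x ≠ 1) (hy1 : y ≠ 1) (hxy : x ≠ y) (hxy1 : x * y ≠ 1) {w : X}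
    (hw : w ∈ W) : w = 1 ∨ w = x ∨ w = y ∨ w = x * y := by
  classical
  have hsub : ({1, x, y, x * y} : Set X) ⊆ W := by
    rintro z (rfl | rfl | rfl | rfl)
    exacts [one_mem W, hx, hy, mul_mem hx hy]
  have hn : ({1, x, y, x * y} : Set X).ncard = 4 := by
    rw [Set.ncard_insert_of_notMem (by
        simp only [Set.mem_insert_iff, Set.mem_singleton_iff, not_or]
        exact ⟨Ne.symm hx1, Ne.symm hy1, Ne.symm hxy1⟩),
      Set.ncard_insert_of_notMem (by
        simp only [Set.mem_insert_iff, Set.mem_singleton_iff, not_or]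
        exact ⟨hxy, fun h => hy1 (mul_eq_left.1 h.symm)⟩),
      Set.ncard_insert_of_notMem (by
        rw [Set.mem_singleton_iff]
        exact fun h => hx1 (mul_eq_right.1 h.symm)),
      Set.ncard_singleton]
  have hw' : w ∈ (W : Set X) := hw
  rw [← Set.eq_of_subset_of_ncard_le hsub (by rw [hn, ← Nat.card_coe_set_eq]; exact h4.le)] at hw'
  simpa using hw'

section Linear

variable {V : Type u} [CommGroup V] [Finite V]

/-- A cycle on a four-group is fixed-point-free and `g (g x) = x * g x`. -/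
theorem cycle_apply {U W : Subgroup V} (h4 : Nat.card ↥W = 4) (h2 : ∀ x : V, x ^ 2 = 1) {g : MulAut V}
    (hg : IsPieceCycle U W g) {x : V} (hx : x ∈ W) (hx1 : x ≠ 1) :
    g x ≠ x ∧ g x ≠ 1 ∧ g (g x) = x * g x := by
  have hfree : ∀ y ∈ W, y ≠ 1 → g y ≠ y := by
    intro y hy hy1 hfix
    have hpow : ∀ n : ℕ, (g ^ n) y = y := fun n => by
      induction n with
      | zero => rw [pow_zero, MulAut.one_apply]
      | succ n ih => rw [pow_succ, MulAut.mul_apply, hfix, ih]
    have hsub : (W : Set V) ⊆ {1, y} := fun z hz => by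
      rcases eq_or_ne z 1 with hz1 | hz1
      · exact Or.inl hz1
      · obtain ⟨n, hn⟩ := hg.trans y hy hy1 z hz hz1
        exact Or.inr (hn.symm.trans (hpow n))
    have h := Set.ncard_le_ncard hsub (Set.toFinite _)
    rw [← Nat.card_coe_set_eq] at h
    have h' := h.trans ((Set.ncard_insert_le _ _).trans (by rw [Set.ncard_singleton]))
    change Nat.card ↥W ≤ 2 at h'
    omega
  have hne := hfree x hx hx1
  have hg1 : g x ≠ 1 := fun h => hx1 (g.injective (h.trans (map_one g).symm))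
  have hgW := hg.maps x hx
  have hmul : x * g x ≠ 1 := fun h => hne (by
    calc g x = x ^ 2 * g x := by rw [h2, one_mul]
      _ = x * (x * g x) := by rw [pow_two, mul_assoc]
      _ = x := by rw [h, mul_one])
  refine ⟨hne, hg1, ?_⟩
  rcases mem_four h4 hx hgW hx1 hg1 (Ne.symm hne) hmul (hg.maps _ hgW) with h | h | h | h
  · exact absurd (g.injective (h.trans (map_one g).symm)) hg1
  · refine absurd ?_ (hfree _ (mul_mem hx hgW) hmul)
    rw [map_mul, h, mul_comm]
  · exact absurd h (hfree _ hgW hg1)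
  · exact h

/-- Two cycles on a four-group with common fixed complement are powers of each other. -/
theorem cycle_mem_zpowers {U W : Subgroup V} (hUW : IsCompl U W) (h4 : Nat.card ↥W = 4)
    (h2 : ∀ x : V, x ^ 2 = 1) {g h : MulAut V} (hg : IsPieceCycle U W g) (hh : IsPieceCycle U W h) :
    h ∈ zpowers g := by
  obtain ⟨⟨x, hx⟩, hx1'⟩ := Subgroup.ne_bot_iff_exists_ne_one.1
    (show W ≠ ⊥ from fun e => by rw [e, card_bot] at h4; omega)
  have hx1 : x ≠ 1 := fun e => hx1' (Subtype.ext e)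
  obtain ⟨g1, g2, g3⟩ := cycle_apply h4 h2 hg hx hx1
  obtain ⟨h1, h2', h3⟩ := cycle_apply h4 h2 hh hx hx1
  have hgW := hg.maps x hx
  have hmul : x * g x ≠ 1 := fun e => g1 (by
    calc g x = x ^ 2 * g x := by rw [h2, one_mul]
      _ = x * (x * g x) := by rw [pow_two, mul_assoc]
      _ = x := by rw [e, mul_one])
  have hhmul : x * h x ≠ 1 := fun e => h1 (by
    calc h x = x ^ 2 * h x := by rw [h2, one_mul]
      _ = x * (x * h x) := by rw [pow_two, mul_assoc]
      _ = x := by rw [e, mul_one])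
  have key : ∀ k : MulAut V, (∀ a ∈ U, k a = a) → k x = h x → k (h x) = x * h x → k = h := by
    intro k hkU hk1 hk2
    refine MulEquiv.ext fun z => ?_
    obtain ⟨a, ha, c, hc, rfl⟩ := IsPieceCycle.exists_mul hUW z
    rw [map_mul, map_mul, hkU a ha, hh.fix a ha]
    rcases mem_four h4 hx (hh.maps x hx) hx1 h2' (Ne.symm h1) hhmul hc with e | e | e | e <;> subst e
    · rw [map_one, map_one]
    · rw [hk1]
    · rw [hk2, h3]
    · rw [map_mul, map_mul, hk1, hk2, h3]
  rcases mem_four h4 hx hgW hx1 g2 (Ne.symm g1) hmul (hh.maps x hx) with e | e | e | e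
  · exact absurd e h2'
  · exact absurd e h1
  · rw [← key g hg.fix e.symm (by rw [e, g3])]
    exact mem_zpowers g
  · rw [← key (g * g) (fun a ha => by rw [MulAut.mul_apply, hg.fix a ha, hg.fix a ha])
      (by rw [MulAut.mul_apply, g3, e]) (by
        rw [MulAut.mul_apply, e, map_mul, g3, show g x * (x * g x) = x * g x ^ 2 by
          rw [pow_two, ← mul_assoc, mul_comm (g x) x, mul_assoc], h2, mul_one, ← mul_assoc,
          ← pow_two, h2, one_mul])]
    exact mul_mem (mem_zpowers g) (mem_zpowers g)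

end Linear

variable {G : Type u} [Group G] [Finite G]

/-- The standing hypotheses. -/
structure Hyp (E : Setting G) : Prop where
  loc : ∀ u ∈ E.A, u ≠ 1 → ∀ T : Sylow 2 (CenBar u),
    Cfsg.IsStronglyClosed (img u E.A) (T : Subgroup (CenBar u)) →
      LocalFacts (T : Subgroup (CenBar u)) (img u E.A)
  eight : Nat.card ↥E.A = 8
  free : E.CentreFree

variable {E : Setting G}

theorem bar_self_comm {u : G} (h : u ∈ cen u) (y : CenBar u) :
    y * bar u ⟨u, h⟩ = bar u ⟨u, h⟩ * y := by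
  obtain ⟨x, rfl⟩ := QuotientGroup.mk'_surjective _ y
  rw [← map_mul, ← map_mul]
  exact congrArg _ (Subtype.ext (mem_centralizer_singleton_iff.1 x.2))

/-- The component data at `u`. -/
theorem Hyp.comp_data (hE : Hyp E) {u : G} (hu : u ∈ E.A) (hu1 : u ≠ 1) {L : Subgroup (CenBar u)}
    (hL : IsAComp (img u E.A) L) :
    (∃ g, CompCycle (img u E.A) L (img u E.A ⊓ L) g) ∧ Nat.card ↥(img u E.A ⊓ L) = 4 ∧
      ∀ a ∈ E.A, ∀ h : a ∈ cen u, bar u ⟨a, h⟩ ∈ centralizer (L : Set (CenBar u)) → a = 1 ∨ a = u := by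
  obtain ⟨P, T, -, -, hT⟩ := E.exists_local (E.le_cen hu)
  obtain ⟨W, g, hg⟩ := (hE.loc u hu hu1 T hT).exists_cycle L hL
  have huc := E.le_cen hu hu
  have hz1 : bar u ⟨u, huc⟩ ≠ 1 := fun h =>
    hu1 (congrArg Subtype.val (eq_one_of_bar_eq E.isPGroup_A (a := ⟨u, huc⟩) hu h))
  obtain ⟨h4, hBL, hC⟩ := compCycle_card hg
    (by rw [card_img E.isPGroup_A (E.le_cen hu)]; exact hE.eight) (bar_mem_img hu huc) hz1
    (mem_centralizer_iff.2 fun y _ => bar_self_comm huc y) (hE.free u hu hu1 L hL)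
  refine ⟨⟨g, hBL.symm ▸ hg⟩, hBL.symm ▸ h4, fun a ha h hac => ?_⟩
  rcases hC _ (bar_mem_img ha h) hac with e | e
  · exact Or.inl (congrArg Subtype.val (eq_one_of_bar_eq E.isPGroup_A (a := ⟨a, h⟩) ha e))
  · exact Or.inr (congrArg Subtype.val
      (bar_inj_two E.isPGroup_A (a := ⟨a, h⟩) (b := ⟨u, huc⟩) ha hu e))

/-- `u` sees at most one component moved by `A`. -/
theorem Hyp.comp_unique (hE : Hyp E) {u : G} (hu : u ∈ E.A) (hu1 : u ≠ 1) {L L' : Subgroup (CenBar u)}
    (hL : IsAComp (img u E.A) L) (hL' : IsAComp (img u E.A) L') : L = L' := by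
  by_contra hne
  have hcomm : L ≤ centralizer (L' : Set (CenBar u)) :=
    CfsgLib.Components.le_centralizer_of_commutator_eq_bot
      (CfsgLib.Components.commutator_components_eq_bot hL.1 hL'.1 hne)
  have huc := E.le_cen hu hu
  have h4 := (hE.comp_data hu hu1 hL).2.1
  have hC := (hE.comp_data hu hu1 hL').2.2
  have hsub : ((img u E.A ⊓ L : Subgroup (CenBar u)) : Set (CenBar u)) ⊆ {1, bar u ⟨u, huc⟩} := by
    rintro y ⟨hy, hyL⟩
    obtain ⟨a, ha, hac, rfl⟩ := mem_img.1 hy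
    rcases hC a ha hac (hcomm hyL) with rfl | rfl
    · exact Or.inl (map_one (bar u))
    · exact Or.inr rfl
  have h := (Set.ncard_le_ncard hsub (Set.toFinite _)).trans
    ((Set.ncard_insert_le _ _).trans (by rw [Set.ncard_singleton]))
  rw [← Nat.card_coe_set_eq] at h
  change Nat.card ↥(img u E.A ⊓ L) ≤ 2 at h
  omega

/-- `N(A) ∩ C(u)` normalises the component moved by `A`. -/
theorem Hyp.normalizes (hE : Hyp E) {u : G} (hu : u ∈ E.A) (hu1 : u ≠ 1) {L : Subgroup (CenBar u)}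
    (hL : IsAComp (img u E.A) L) {x : ↥(cen u)} (hx : (x : G) ∈ normalizer (E.A : Set G)) :
    bar u x ∈ normalizer (L : Set (CenBar u)) := by
  rw [mem_normalizer_iff_map_conj_eq]
  refine hE.comp_unique hu hu1 ⟨CfsgLib.Components.isComponent_conj _ hL.1, fun hle => hL.2 ?_⟩ hL
  intro b hb
  obtain ⟨a, ha, hac, rfl⟩ := mem_img.1 hb
  refine mem_centralizer_iff.2 fun l hl => ?_
  have hb' : bar u x * bar u ⟨a, hac⟩ * (bar u x)⁻¹ ∈ img u E.A := by
    rw [← map_inv, ← map_mul, ← map_mul]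
    exact bar_mem_img (conjA hx ha) _
  have h := mem_centralizer_iff.1 (hle hb') (bar u x * l * (bar u x)⁻¹) ⟨l, hl, rfl⟩
  calc l * bar u ⟨a, hac⟩
      = (bar u x)⁻¹ * ((bar u x * l * (bar u x)⁻¹) * (bar u x * bar u ⟨a, hac⟩ * (bar u x)⁻¹)) * bar u x := by
        group
    _ = _ := by rw [h]; group

/-- The piece has order four. -/
theorem Hyp.card_piece (hE : Hyp E) {u : G} (hu : u ∈ E.A) (hu1 : u ≠ 1) {L : Subgroup (CenBar u)}
    (hL : IsAComp (img u E.A) L) : Nat.card ↥(piece E.A u L) = 4 := by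
  rw [← (hE.comp_data hu hu1 hL).2.1]
  refine Nat.card_eq_of_bijective (fun a : ↥(piece E.A u L) =>
    (⟨bar u ⟨a, E.le_cen hu (mem_piece'.1 a.2).1⟩,
      bar_mem_img (mem_piece'.1 a.2).1 _, (mem_piece'.1 a.2).2.2⟩ : ↥(img u E.A ⊓ L))) ⟨?_, ?_⟩
  · intro a b h
    exact Subtype.ext (congrArg Subtype.val (bar_inj_two E.isPGroup_A
      (a := ⟨a, E.le_cen hu (mem_piece'.1 a.2).1⟩) (b := ⟨b, E.le_cen hu (mem_piece'.1 b.2).1⟩)
      (mem_piece'.1 a.2).1 (mem_piece'.1 b.2).1 (congrArg Subtype.val h)) :)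
  · rintro ⟨y, hy, hyL⟩
    obtain ⟨a, ha, hac, rfl⟩ := mem_img.1 hy
    exact ⟨⟨a, mem_piece'.2 ⟨ha, hac, hyL⟩⟩, rfl⟩

/-- `u` lies outside its piece. -/
theorem Hyp.not_mem_piece (hE : Hyp E) {u : G} (hu : u ∈ E.A) (hu1 : u ≠ 1) {L : Subgroup (CenBar u)}
    (hL : IsAComp (img u E.A) L) : u ∉ piece E.A u L := by
  intro h
  obtain ⟨-, huc, hm⟩ := mem_piece'.1 h
  have h1 : bar u ⟨u, huc⟩ ∈ img u E.A ⊓ L ⊓ centralizer (L : Set (CenBar u)) :=
    ⟨⟨bar_mem_img hu huc, hm⟩, mem_centralizer_iff.2 fun y _ => bar_self_comm huc y⟩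
  rw [hE.free u hu hu1 L hL, mem_bot] at h1
  exact hu1 (congrArg Subtype.val (eq_one_of_bar_eq E.isPGroup_A (a := ⟨u, huc⟩) hu h1))

/-- Pieces go to pieces. -/
theorem map_piece_conj {n w v : G} (h : n * w * n⁻¹ = v) (hn : n ∈ normalizer (E.A : Set G)) (hw : w ∈ E.A)
    (L : Subgroup (CenBar w)) :
    (piece E.A w L).map (MulAut.conj n).toMonoidHom =
      piece E.A v (L.map (cenBarConj h).toMonoidHom) := by
  have hv : v ∈ E.A := h ▸ conjA hn hw
  ext y
  constructor
  · rintro ⟨a, ha, rfl⟩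
    obtain ⟨haA, hac, haL⟩ := mem_piece'.1 ha
    refine mem_piece'.2 ⟨conjA hn haA, E.le_cen hv (conjA hn haA), _, haL, ?_⟩
    show cenBarConj h (bar w ⟨a, hac⟩) = _
    rw [cenBarConj_bar]
    exact congrArg _ (Subtype.ext (cenConj_coe h _))
  · intro hy
    obtain ⟨hyA, hyc, l, hl, hly⟩ := mem_piece'.1 hy
    have haA := conjA' hn hyA
    refine ⟨n⁻¹ * y * n, mem_piece'.2 ⟨haA, E.le_cen hw haA, ?_⟩, by simp [mul_assoc]⟩
    suffices e : cenBarConj h (bar w ⟨n⁻¹ * y * n, E.le_cen hw haA⟩) = bar v ⟨y, hyc⟩ by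
      rw [← hly] at e
      rw [(cenBarConj h).injective e]
      exact hl
    rw [cenBarConj_bar]
    exact congrArg _ (Subtype.ext (by rw [cenConj_coe]; group))

/-- An element of `N(A) ∩ C(u)` cycling the piece. -/
theorem Hyp.exists_piece_cycle (hE : Hyp E) {u : G} (hu : u ∈ E.A) (hu1 : u ≠ 1) {L : Subgroup (CenBar u)}
    (hL : IsAComp (img u E.A) L) :
    ∃ n ∈ normalizer (E.A : Set G), n * u * n⁻¹ = u ∧
      (∀ a ∈ piece E.A u L, n * a * n⁻¹ ∈ piece E.A u L) ∧
      ∀ a ∈ piece E.A u L, a ≠ 1 → ∀ b ∈ piece E.A u L, b ≠ 1 → ∃ i : ℕ, n ^ i * a * (n ^ i)⁻¹ = b := by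
  obtain ⟨g, hg⟩ := (hE.comp_data hu hu1 hL).1
  obtain ⟨y, hyN, hy⟩ := E.exists_lift hu hg.cycle.mem_normalizer
  refine ⟨y, hyN, mul_inv_eq_iff_eq_mul.2 (mem_centralizer_singleton_iff.1 y.2), fun a ha => ?_,
    fun a ha ha1 b hb hb1 => ?_⟩
  · obtain ⟨haA, hac, haL⟩ := mem_piece'.1 ha
    refine mem_piece'.2 ⟨conjA hyN haA, mul_mem (mul_mem y.2 hac) (inv_mem y.2), ?_⟩
    show bar u (y * ⟨a, hac⟩ * y⁻¹) ∈ L
    rw [map_mul, map_mul, map_inv, hy]
    exact mul_mem (mul_mem hg.mem haL) (inv_mem hg.mem)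
  · obtain ⟨haA, hac, haL⟩ := mem_piece'.1 ha
    obtain ⟨hbA, hbc, hbL⟩ := mem_piece'.1 hb
    obtain ⟨i, hi⟩ := hg.cycle.trans _ ⟨bar_mem_img haA hac, haL⟩
      (fun h => ha1 (congrArg Subtype.val (eq_one_of_bar_eq E.isPGroup_A (a := ⟨a, hac⟩) haA h)))
      _ ⟨bar_mem_img hbA hbc, hbL⟩
      (fun h => hb1 (congrArg Subtype.val (eq_one_of_bar_eq E.isPGroup_A (a := ⟨b, hbc⟩) hbA h)))
    exact ⟨i, congrArg Subtype.val (bar_inj_two E.isPGroup_A (a := y ^ i * ⟨a, hac⟩ * (y ^ i)⁻¹)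
      (b := ⟨b, hbc⟩) (by simpa using conjA (pow_mem hyN i) haA) hbA
      (by rw [map_mul, map_mul, map_inv, map_pow, hy, hi]))⟩

theorem aut_mem {f : MulAut ↥E.A} (hf : f ∈ E.aut) :
    ∃ n ∈ normalizer (E.A : Set G), ∀ a : ↥E.A, (f a : G) = n * a * n⁻¹ := by
  obtain ⟨n, rfl⟩ := hf
  exact ⟨n, n.2, fun a => rfl⟩

/-- `S` centralises `A`. -/
theorem Hyp.le_centralizer [IsSimpleGroup G] (hE : Hyp E) (hnc : ¬ IsMulCommutative G) (hex : E.HasComp) :
    (E.S : Subgroup G) ≤ centralizer (E.A : Set G) := by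
  letI : CommGroup ↥E.A :=
    { (inferInstance : Group ↥E.A) with mul_comm := fun a b => Subtype.ext (E.commute_A a.2 b.2) }
  have h2 : ∀ x : ↥E.A, x ^ 2 = 1 := fun x => Subtype.ext (E.pow_two_A x.2)
  let P : Set (Subgroup ↥E.A × Subgroup ↥E.A) := {p | ∃ u : ↥E.A, (u : G) ≠ 1 ∧
    ∃ L : Subgroup (CenBar (u : G)), IsAComp (img (u : G) E.A) L ∧
      p = (zpowers u, (piece E.A (u : G) L).subgroupOf E.A)}
  have hz : ∀ (u x : ↥E.A), x ∈ zpowers u → x = 1 ∨ x = u := by
    intro u x hx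
    obtain ⟨i, rfl⟩ := mem_zpowers_iff.1 hx
    rcases Int.even_or_odd i with ⟨j, rfl⟩ | ⟨j, rfl⟩
    · left
      rw [show u ^ (j + j) = (u ^ 2) ^ j by rw [← zpow_natCast, ← zpow_mul]; congr 1; ring, h2, one_zpow]
    · right
      rw [zpow_add, zpow_one, zpow_mul, zpow_ofNat, h2, one_zpow, one_mul]
  have hcardz : ∀ u : ↥E.A, (u : G) ≠ 1 → Nat.card ↥(zpowers u) = 2 := fun u hu => by
    rw [Nat.card_zpowers]
    exact orderOf_eq_prime (h2 u) fun e => hu (congrArg Subtype.val e)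
  have hcardp : ∀ (u : ↥E.A), (u : G) ≠ 1 → ∀ L : Subgroup (CenBar (u : G)),
      IsAComp (img (u : G) E.A) L → Nat.card ↥((piece E.A (u : G) L).subgroupOf E.A) = 4 := fun u hu L hL => by
    rw [← card_map_of_injective E.A.subtype_injective, subgroupOf_map_subtype,
      inf_eq_left.2 (show piece E.A (u : G) L ≤ E.A from inf_le_left)]
    exact hE.card_piece u.2 hu hL
  have hdis : ∀ (u : ↥E.A), (u : G) ≠ 1 → ∀ L : Subgroup (CenBar (u : G)),
      IsAComp (img (u : G) E.A) L → Disjoint (zpowers u) ((piece E.A (u : G) L).subgroupOf E.A) := by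
    intro u hu L hL
    rw [disjoint_iff, eq_bot_iff]
    rintro x ⟨hx, hx'⟩
    rcases hz u x hx with rfl | rfl
    · exact one_mem _
    · exact absurd (mem_subgroupOf.1 hx') (hE.not_mem_piece x.2 hu hL)
  have hcompl : ∀ p ∈ P, IsCompl p.1 p.2 := by
    rintro p ⟨u, hu, L, hL, rfl⟩
    have hd := hdis u hu L hL
    refine ⟨hd, codisjoint_iff.2 ((Subgroup.eq_top_iff' _).2 fun x => ?_)⟩
    have hbij : Function.Bijective
        (fun q : ↥(zpowers u) × ↥((piece E.A (u : G) L).subgroupOf E.A) => (q.1 : ↥E.A) * q.2) := by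
      refine (Nat.bijective_iff_injective_and_card _).2 ⟨Subgroup.mul_injective_of_disjoint hd, ?_⟩
      rw [Nat.card_prod, hcardz u hu, hcardp u hu L hL, hE.eight]
    obtain ⟨q, hq⟩ := hbij.2 x
    exact hq ▸ mul_mem_sup q.1.2 q.2.2
  have hP : IsPieceFamily E.aut P := by
    refine ⟨?_, hcompl, ?_, ?_, ?_, ?_⟩
    · rintro f hf p ⟨u, hu, L, hL, rfl⟩
      obtain ⟨n, hn, hfn⟩ := aut_mem hf
      have hu' : (f u : G) = n * u * n⁻¹ := hfn u
      refine ⟨f u, fun e => hu (congrArg Subtype.val (f.injective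
        ((show f u = 1 from Subtype.ext e).trans (map_one f).symm))),
        L.map (cenBarConj hu'.symm).toMonoidHom, IsAComp.map_conj _ hn hL, ?_⟩
      show (_, _) = (_, _)
      rw [← map_piece_conj hu'.symm hn u.2 L, MonoidHom.map_zpowers]
      congr 1
      ext x
      simp only [mem_subgroupOf, Subgroup.mem_map]
      constructor
      · rintro ⟨a, ha, rfl⟩
        exact ⟨a, ha, (hfn a).symm⟩
      · rintro ⟨a, ha, hax⟩
        exact ⟨⟨a, (mem_piece'.1 ha).1⟩, ha, Subtype.ext ((hfn _).trans hax)⟩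
    · rintro p ⟨u, hu, L, hL, rfl⟩ h
      exact hu (congrArg Subtype.val (zpowers_eq_bot.1 h))
    · rintro p ⟨u, hu, L, hL, rfl⟩
      rw [hcardz u hu, hcardp u hu L hL]
      norm_num
    · rintro p ⟨u, hu, L, hL, rfl⟩ q ⟨v, hv, M, hM, rfl⟩ hne
      obtain ⟨⟨x, hxu, hxv⟩, hx1⟩ := Subgroup.ne_bot_iff_exists_ne_one.1 hne
      have hx1' : x ≠ 1 := fun e => hx1 (Subtype.ext e)
      obtain rfl : u = v :=
        ((hz u x hxu).resolve_left hx1').symm.trans ((hz v x hxv).resolve_left hx1')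
      rw [hE.comp_unique u.2 hu hL hM]
    · rintro p ⟨u, hu, L, hL, rfl⟩
      obtain ⟨n, hn, hnu, hmaps, htr⟩ := hE.exists_piece_cycle u.2 hu hL
      set g : MulAut ↥E.A := E.A.normalizerMonoidHom ⟨n, hn⟩ with hgdef
      have hg : IsPieceCycle (zpowers u) ((piece E.A (u : G) L).subgroupOf E.A) g := by
        refine ⟨fun x hx => ?_, fun x hx => hmaps _ hx, fun x hx hx1 y hy hy1 => ?_⟩
        · rcases hz u x hx with rfl | rfl
          · exact map_one g
          · exact Subtype.ext hnu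
        · obtain ⟨i, hi⟩ := htr x hx (fun e => hx1 (Subtype.ext e)) y hy (fun e => hy1 (Subtype.ext e))
          refine ⟨i, Subtype.ext ?_⟩
          rw [hgdef, ← map_pow]
          exact hi
      refine ⟨g, ⟨_, rfl⟩, hg, fun f _ hfix => ?_⟩
      have hU : (zpowers u).map f.toMonoidHom = zpowers u := congrArg Prod.fst hfix
      have hW : ((piece E.A (u : G) L).subgroupOf E.A).map f.toMonoidHom =
          (piece E.A (u : G) L).subgroupOf E.A := congrArg Prod.snd hfix
      have hinv : ∀ {X : Subgroup ↥E.A}, X.map f.toMonoidHom = X → ∀ x ∈ X, f⁻¹ x ∈ X := by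
        intro X hX x hx
        rw [← hX] at hx
        obtain ⟨y, hy, rfl⟩ := hx
        show f⁻¹ (f y) ∈ X
        rwa [MulAut.inv_apply_self]
      refine cycle_mem_zpowers (hcompl _ ⟨u, hu, L, hL, rfl⟩) (hcardp u hu L hL) h2 hg
        ⟨fun x hx => ?_, fun x hx => ?_, fun x hx hx1 y hy hy1 => ?_⟩
      · rw [MulAut.mul_apply, MulAut.mul_apply, hg.fix _ (hinv hU x hx), MulAut.apply_inv_self]
      · rw [MulAut.mul_apply, MulAut.mul_apply, ← hW]
        exact mem_map_of_mem _ (hg.maps _ (hinv hW x hx))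
      · obtain ⟨i, hi⟩ := hg.trans _ (hinv hW x hx) (fun e => hx1 (f⁻¹.injective (e.trans (map_one _).symm)))
          _ (hinv hW y hy) (fun e => hy1 (f⁻¹.injective (e.trans (map_one _).symm)))
        refine ⟨i, ?_⟩
        rw [conj_pow, MulAut.mul_apply, MulAut.mul_apply, hi, MulAut.apply_inv_self]
  have hne : P.Nonempty := by
    obtain ⟨u, hu, hu1, L, hL⟩ := hex
    exact ⟨_, ⟨u, hu⟩, hu1, L, hL, rfl⟩
  have hirr : IsIrred E.aut := by
    intro X hX
    have hXA : X.map E.A.subtype ≤ E.A := map_subtype_le X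
    have hN : normalizer (E.A : Set G) ≤ normalizer (X.map E.A.subtype : Set G) := by
      refine le_normalizer_iff.2 fun n hn a ha => ?_
      obtain ⟨x, hx, rfl⟩ := ha
      exact ⟨E.A.normalizerMonoidHom ⟨n, hn⟩ x, hX _ ⟨_, rfl⟩ x hx, rfl⟩
    rcases E.irr _ hXA hN with h | h
    · exact Or.inl ((map_eq_bot_iff_of_injective _ E.A.subtype_injective).1 h)
    · refine Or.inr (map_injective E.A.subtype_injective ?_)
      rw [h, ← MonoidHom.range_eq_map, range_subtype]
  exact E.le_centralizer_of_twoComplement hnc (hasTwoComplement_of_pieceFamily hP hne hirr h2)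

end RankThree

end CfsgLib.Goldschmidt
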